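import Groth.Agent.FlatLoc6.GeomComp
import Mathlib.AlgebraicGeometry.Noetherian
import Mathlib.AlgebraicGeometry.Morphisms.RingHomProperties
import Mathlib.RingTheory.RingHom.Flat

/-! Flat maps with fibres having a property geometrically. -/

namespace Groth.Agent.GPLib

universe u

open TensorProduct Groth.Agent.FlatLoc6

/-- A property of rings that can be checked on standard opens around each prime. -/
def ZLocal (P : ∀ (R : Type u) [CommRing R], Prop) : Prop :=
  ∀ (R : Type u) [CommRing R], (∀ (q : Ideal R) [q.IsPrime], ∃ r ∉ q, P (Localization.Away r)) → P R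

theorem exists_span_of_forall_prime {R : Type u} [CommRing R] (S : R → Prop)
    (h : ∀ (q : Ideal R) [q.IsPrime], ∃ r ∉ q, S r) :
    ∃ s : Finset R, Ideal.span (s : Set R) = ⊤ ∧ ∀ r ∈ s, S r := by
  have ht : Ideal.span {r | S r} = ⊤ := by
    by_contra hne
    obtain ⟨m, hm, hle⟩ := Ideal.exists_le_maximal _ hne
    obtain ⟨r, hr, hS⟩ := h m
    exact hr (hle (Ideal.subset_span hS))
  obtain ⟨s, hs, hspan⟩ := (Ideal.span_eq_top_iff_finite _).1 ht
  exact ⟨s, hspan, fun r hr => hs hr⟩

theorem isNoetherianRing_of_forall_prime {R : Type u} [CommRing R]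
    (h : ∀ (q : Ideal R) [q.IsPrime], ∃ r ∉ q, IsNoetherianRing (Localization.Away r)) : IsNoetherianRing R := by
  obtain ⟨s, hs, hN⟩ := exists_span_of_forall_prime _ h
  exact AlgebraicGeometry.isNoetherianRing_of_away s hs fun r => hN r.1 r.2

theorem exists_atPrime_equiv {R : Type u} [CommRing R] (r : R) (q : Ideal R) [q.IsPrime] (hr : r ∉ q) :
    ∃ (Q : Ideal (Localization.Away r)) (_ : Q.IsPrime),
      Nonempty (Localization.AtPrime q ≃+* Localization.AtPrime Q) := by
  have hd := (Ideal.disjoint_powers_iff_notMem r (Ideal.IsPrime.isRadical (inferInstance : q.IsPrime))).2 hr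
  let Q := q.map (algebraMap R (Localization.Away r))
  haveI : Q.IsPrime := IsLocalization.isPrime_of_isPrime_disjoint _ _ q inferInstance hd
  have hc : Q.comap (algebraMap R (Localization.Away r)) = q :=
    IsLocalization.comap_map_of_isPrime_disjoint _ _ inferInstance hd
  haveI : IsLocalization.AtPrime (Localization.AtPrime Q) q := by
    have := IsLocalization.isLocalization_isLocalization_atPrime_isLocalization (Submonoid.powers r) (Localization.AtPrime Q) Q
    simpa only [hc] using this
  exact ⟨Q, inferInstance, ⟨(IsLocalization.algEquiv q.primeCompl (Localization.AtPrime q) (Localization.AtPrime Q)).toRingEquiv⟩⟩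

theorem zLocal_regular : ZLocal.{u} (fun R _ => IsRegularRing R) := fun R _ h => by
  haveI : IsNoetherianRing R := isNoetherianRing_of_forall_prime fun q _ => by
    obtain ⟨r, hr, hR⟩ := h q
    exact ⟨r, hr, haveI := hR; inferInstance⟩
  show IsRegularRing R
  rw [isRegularRing_iff]
  intro q _
  obtain ⟨r, hr, hR⟩ := h q
  obtain ⟨Q, _, ⟨e⟩⟩ := exists_atPrime_equiv r q hr
  haveI := hR
  exact IsRegularLocalRing.of_ringEquiv e.symm

theorem zLocal_normal : ZLocal.{u} (fun R _ => NoethNormal R) := fun R _ h => by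
  refine ⟨isNoetherianRing_of_forall_prime fun q _ => ?_, fun q _ => ?_⟩
  · obtain ⟨r, hr, hR⟩ := h q
    exact ⟨r, hr, hR.1⟩
  · obtain ⟨r, hr, hR⟩ := h q
    obtain ⟨Q, _, ⟨e⟩⟩ := exists_atPrime_equiv r q hr
    obtain ⟨_, _⟩ := hR.2 Q
    exact ⟨e.toMulEquiv.isDomain, IsIntegrallyClosed.of_equiv (R := Localization.AtPrime Q) e.symm⟩

/-- Flat, with fibres having the property after every finite extension of the residue field. -/
def GP (P : ∀ (R : Type u) [CommRing R], Prop) (A B : Type u) [CommRing A] [CommRing B] [Algebra A B] : Prop :=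
  Module.Flat A B ∧ ∀ (p : Ideal A) [p.IsPrime] (L : Type u) [Field L] [Algebra p.ResidueField L],
    Module.Finite p.ResidueField L → P (L ⊗[p.ResidueField] p.Fiber B)

variable {P : ∀ (R : Type u) [CommRing R], Prop}

theorem gp_of_algEquiv (hP : Permanence P) {A B B' : Type u} [CommRing A] [CommRing B] [CommRing B']
    [Algebra A B] [Algebra A B'] (e : B ≃ₐ[A] B') (h : GP P A B) : GP P A B' := by
  haveI := h.1
  exact ⟨Module.Flat.of_linearEquiv e.toLinearEquiv.symm, fun p _ L _ _ hL =>
    hP.equiv (Algebra.TensorProduct.congr (AlgEquiv.refl (R := p.ResidueField) (A₁ := L))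
      (Algebra.TensorProduct.congr (AlgEquiv.refl (R := p.ResidueField) (A₁ := p.ResidueField)) e)).toRingEquiv
      (h.2 p L hL)⟩

/-- Stability under base change essentially of finite type. -/
theorem gp_baseChange (hP : Permanence P) (A B A' : Type u) [CommRing A] [CommRing B] [CommRing A'] [Algebra A B]
    [Algebra A A'] [Algebra.EssFiniteType A A'] (h : GP P A B) : GP P A' (A' ⊗[A] B) := by
  haveI := h.1
  refine ⟨inferInstance, fun p' _ L _ _ hL => ?_⟩
  obtain ⟨_, _, _, _⟩ := exists_instances A A' p' L
  obtain ⟨e⟩ := fiber_baseChange_equiv A B A' p' L (p'.comap (algebraMap A A'))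
  haveI : Algebra.EssFiniteType A p'.ResidueField := Algebra.EssFiniteType.comp A A' _
  haveI : Algebra.EssFiniteType A L := Algebra.EssFiniteType.comp A p'.ResidueField L
  haveI : Algebra.EssFiniteType (p'.comap (algebraMap A A')).ResidueField L :=
    Algebra.EssFiniteType.of_comp A (p'.comap (algebraMap A A')).ResidueField L
  exact hP.equiv (R := L ⊗[(p'.comap (algebraMap A A')).ResidueField] (p'.comap (algebraMap A A')).Fiber B) e.symm
    (hP.of_insep _ _ (fun k' _ _ hf _ => h.2 (p'.comap (algebraMap A A')) k' hf) L)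

/-- Descent of the fibre at one prime. -/
theorem fibre_descend (hP : Permanence P) (A B A' : Type u) [CommRing A] [CommRing B] [CommRing A'] [Algebra A B]
    [Algebra A A'] (Q : Ideal A') [Q.IsPrime] (p : Ideal A) [p.IsPrime] (hQ : Q.comap (algebraMap A A') = p)
    (h : ∀ (L : Type u) [Field L] [Algebra Q.ResidueField L], Module.Finite Q.ResidueField L →
      P (L ⊗[Q.ResidueField] Q.Fiber (A' ⊗[A] B)))
    (k' : Type u) [Field k'] [Algebra p.ResidueField k'] [Module.Finite p.ResidueField k'] :
    P (k' ⊗[p.ResidueField] p.Fiber B) := by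
  subst hQ
  obtain ⟨_, _⟩ := exists_residueAlgebra (L := Q.ResidueField) (Q.comap (algebraMap A A'))
    (ker_algebraMap_over Q Q.ResidueField)
  obtain ⟨L, _, _, _, _, htow, _, hL⟩ :=
    exists_compositum (Q.comap (algebraMap A A')).ResidueField Q.ResidueField k'
  refine hP.descend_field _ k' L _ ?_
  letI : Algebra A L := ((algebraMap (Q.comap (algebraMap A A')).ResidueField L).comp
    (algebraMap A (Q.comap (algebraMap A A')).ResidueField)).toAlgebra
  haveI : IsScalarTower A (Q.comap (algebraMap A A')).ResidueField L := IsScalarTower.of_algebraMap_eq' rfl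
  haveI : IsScalarTower A Q.ResidueField L := IsScalarTower.of_algebraMap_eq fun a => by
    rw [IsScalarTower.algebraMap_apply A (Q.comap (algebraMap A A')).ResidueField L,
      IsScalarTower.algebraMap_apply (Q.comap (algebraMap A A')).ResidueField Q.ResidueField L,
      ← IsScalarTower.algebraMap_apply A (Q.comap (algebraMap A A')).ResidueField Q.ResidueField]
  obtain ⟨e⟩ := fiber_baseChange_equiv A B A' Q L (Q.comap (algebraMap A A'))
  exact hP.equiv (R := L ⊗[Q.ResidueField] Q.Fiber (A' ⊗[A] B)) e (h L hL)

theorem flat_at_of_baseChange {A B A' : Type u} [CommRing A] [CommRing B] [CommRing A'] [Algebra A B] [Algebra A A']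
    [Module.Flat A A'] (Q : Ideal A') [Q.IsPrime] (p : Ideal A) [p.IsPrime] [Q.LiesOver p]
    [Module.Flat A' (A' ⊗[A] B)] : Module.Flat A (LocalizedModule p.primeCompl B) := by
  let Ap := Localization.AtPrime p
  let AQ := Localization.AtPrime Q
  letI : Algebra Ap AQ := Localization.AtPrime.algebraOfLiesOver p Q
  haveI : Module.Flat Ap AQ := inferInstance
  haveI : IsLocalHom (algebraMap Ap AQ) := by
    show IsLocalHom (Localization.localRingHom p Q (algebraMap A A') _)
    infer_instance
  haveI : Module.FaithfullyFlat Ap AQ := Module.FaithfullyFlat.of_flat_of_isLocalHom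
  haveI : Module.Flat AQ (AQ ⊗[A'] (A' ⊗[A] B)) := inferInstance
  haveI : Module.Flat AQ (AQ ⊗[A] B) :=
    Module.Flat.of_linearEquiv (AlgebraTensorModule.cancelBaseChange A A' AQ AQ B).symm
  haveI : Module.Flat AQ (AQ ⊗[Ap] (Ap ⊗[A] B)) :=
    Module.Flat.of_linearEquiv (AlgebraTensorModule.cancelBaseChange A Ap AQ AQ B)
  haveI : Module.Flat Ap (Ap ⊗[A] B) := Module.Flat.of_flat_tensorProduct Ap (Ap ⊗[A] B) AQ
  haveI : Module.Flat A (Ap ⊗[A] B) := Module.Flat.trans A Ap _
  exact Module.Flat.of_linearEquiv
    (IsLocalizedModule.linearEquiv p.primeCompl (LocalizedModule.mkLinearMap p.primeCompl B)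
      (TensorProduct.mk A Ap B 1))

/-- Descent along flat maps covering the spectrum. -/
theorem gp_descend (hP : Permanence P) (A B : Type u) [CommRing A] [CommRing B] [Algebra A B]
    (h : ∀ (p : Ideal A) [p.IsPrime], ∃ (A' : Type u) (_ : CommRing A') (_ : Algebra A A') (_ : Module.Flat A A')
      (Q : Ideal A') (_ : Q.IsPrime), Q.comap (algebraMap A A') = p ∧ GP P A' (A' ⊗[A] B)) : GP P A B := by
  refine ⟨Module.flat_of_localized_maximal B fun p hp => ?_, fun p _ L _ _ hL => ?_⟩
  · obtain ⟨A', _, _, _, Q, _, hQ, hfl, -⟩ := h p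
    haveI : Q.LiesOver p := ⟨hQ.symm⟩
    exact flat_at_of_baseChange Q p
  · obtain ⟨A', _, _, _, Q, _, hQ, -, hfib⟩ := h p
    exact fibre_descend hP A B A' Q p hQ (fun L _ _ hL => hfib Q L hL) L

/-- The geometric fibres of a standard open of the source. -/
theorem away_fibre_equiv {A B : Type u} [CommRing A] [CommRing B] [Algebra A B] (r : B) (C : Type u) [CommRing C]
    [Algebra B C] [Algebra A C] [IsScalarTower A B C] [IsLocalization.Away r C] (p : Ideal A) [p.IsPrime]
    (L : Type u) [Field L] [Algebra A L] [Algebra p.ResidueField L] [IsScalarTower A p.ResidueField L] :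
    ∃ e : Localization.Away (algebraMap B (B ⊗[A] L) r) ≃+* L ⊗[p.ResidueField] p.Fiber C, True := by
  haveI : IsLocalization (Algebra.algebraMapSubmonoid (B ⊗[A] L) (Submonoid.powers r)) ((B ⊗[A] L) ⊗[B] C) :=
    inferInstance
  haveI : IsLocalization.Away (algebraMap B (B ⊗[A] L) r) ((B ⊗[A] L) ⊗[B] C) := by
    rw [show Algebra.algebraMapSubmonoid (B ⊗[A] L) (Submonoid.powers r) =
      Submonoid.powers (algebraMap B (B ⊗[A] L) r) from Submonoid.map_powers _ _] at *
    assumption
  exact ⟨(IsLocalization.algEquiv (Submonoid.powers (algebraMap B (B ⊗[A] L) r))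
    (Localization.Away (algebraMap B (B ⊗[A] L) r)) ((B ⊗[A] L) ⊗[B] C)).toRingEquiv.trans (compEquiv A B C p L),
    trivial⟩

/-- Locality on the source. -/
theorem gp_of_cover (hP : Permanence P) (hZ : ZLocal P) (A B : Type u) [CommRing A] [CommRing B] [Algebra A B]
    (h : ∀ (Q : Ideal B) [Q.IsPrime], ∃ r ∉ Q, GP P A (Localization.Away r)) : GP P A B := by
  obtain ⟨s, hs, hgp⟩ := exists_span_of_forall_prime _ h
  refine ⟨Module.flat_of_isLocalized_span B B (s : Set B) hs (fun r => Localization.Away (r : B))
    (fun r => Algebra.linearMap B (Localization.Away (r : B))) fun r => (hgp r r.2).1, fun p _ L _ _ hL => ?_⟩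
  letI : Algebra A L := ((algebraMap p.ResidueField L).comp (algebraMap A p.ResidueField)).toAlgebra
  haveI : IsScalarTower A p.ResidueField L := IsScalarTower.of_algebraMap_eq' rfl
  refine hP.equiv (baseEquiv A B p L).symm (hZ _ fun q _ => ?_)
  obtain ⟨r, hr, hQ⟩ := h (q.comap (algebraMap B (B ⊗[A] L)))
  obtain ⟨e, -⟩ := away_fibre_equiv r (Localization.Away r) p L
  exact ⟨_, hr, hP.equiv e.symm (hQ.2 p L hL)⟩

/-- Standard opens of the source. -/
theorem gp_away (hP : Permanence P) (A B C : Type u) [CommRing A] [CommRing B] [CommRing C] [Algebra A B]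
    [Algebra B C] [Algebra A C] [IsScalarTower A B C] (r : B) [IsLocalization.Away r C] (h : GP P A B) :
    GP P A C := by
  haveI := h.1
  haveI : Module.Flat B C := IsLocalization.flat C (Submonoid.powers r)
  refine ⟨Module.Flat.trans A B C, fun p _ L _ _ hL => ?_⟩
  letI : Algebra A L := ((algebraMap p.ResidueField L).comp (algebraMap A p.ResidueField)).toAlgebra
  haveI : IsScalarTower A p.ResidueField L := IsScalarTower.of_algebraMap_eq' rfl
  obtain ⟨e, -⟩ := away_fibre_equiv r C p L
  exact hP.equiv e (hP.loc (Submonoid.powers (algebraMap B (B ⊗[A] L) r)) _ (hP.equiv (baseEquiv A B p L) (h.2 p L hL)))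

variable (P) in
/-- The property, of ring maps. -/
def QHom : ∀ {R S : Type u} [CommRing R] [CommRing S], (R →+* S) → Prop :=
  fun {R S} _ _ f => @GP P R S _ _ f.toAlgebra

theorem qHom_algebraMap (R S : Type u) [CommRing R] [CommRing S] [Algebra R S] :
    QHom P (algebraMap R S) ↔ GP P R S := by
  show @GP P R S _ _ (algebraMap R S).toAlgebra ↔ _
  rw [Algebra.algebra_ext (algebraMap R S).toAlgebra ‹Algebra R S› fun _ => rfl]

theorem qHom_respectsIso (hP : Permanence P) : RingHom.RespectsIso (QHom P) := by
  constructor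
  · intro R S T _ _ _ f e hf
    letI := f.toAlgebra
    letI : Algebra R T := (e.toRingHom.comp f).toAlgebra
    exact gp_of_algEquiv hP (AlgEquiv.ofRingEquiv (f := e) fun _ => rfl) hf
  · intro R S T _ _ _ f e hf
    letI := f.toAlgebra
    letI : Algebra R S := e.toRingHom.toAlgebra
    letI : Algebra R T := (f.comp e.toRingHom).toAlgebra
    haveI : IsScalarTower R S T := IsScalarTower.of_algebraMap_eq fun _ => rfl
    haveI : IsLocalization (⊥ : Submonoid R) R := IsLocalization.self bot_le
    haveI : IsLocalization (⊥ : Submonoid S) S := IsLocalization.self bot_le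
    haveI : IsLocalization (⊥ : Submonoid R) S := IsLocalization.isLocalization_of_algEquiv ⊥
      (AlgEquiv.ofRingEquiv (R := R) (A₁ := R) (A₂ := S) (f := e) fun _ => rfl)
    letI : Algebra S R := e.symm.toRingHom.toAlgebra
    haveI : IsScalarTower S R T := IsScalarTower.of_algebraMap_eq fun x => by
      show f x = f (e (e.symm x))
      rw [e.apply_symm_apply]
    haveI : Algebra.EssFiniteType S R :=
      haveI : Algebra.FiniteType S R := (RingHom.FiniteType.of_surjective _ e.symm.surjective :
        (algebraMap S R).FiniteType)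
      inferInstance
    haveI : IsLocalization (⊥ : Submonoid S) R := IsLocalization.isLocalization_of_algEquiv ⊥
      (AlgEquiv.ofRingEquiv (R := S) (A₁ := S) (A₂ := R) (f := e.symm) fun _ => rfl)
    haveI : IsLocalization (Algebra.algebraMapSubmonoid T (⊥ : Submonoid S)) T := by
      refine IsLocalization.self ?_
      rintro _ ⟨_, h1, rfl⟩
      rw [Submonoid.mem_bot.1 h1, map_one]
      exact isUnit_one
    haveI : Algebra.IsPushout S R T T := (Algebra.isPushout_of_isLocalization (⊥ : Submonoid S) R T T).symm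
    exact gp_of_algEquiv hP (Algebra.IsPushout.equiv S R T T) (gp_baseChange hP S T R hf)

attribute [local instance] Algebra.TensorProduct.rightAlgebra in
theorem qHom_isLocal (hP : Permanence P) (hZ : ZLocal P) : RingHom.PropertyIsLocal (QHom P) := by
  refine ⟨?_, ?_, ?_, ?_⟩
  · intro R S _ _ f r R' S' _ _ _ _ _ _ hf
    letI := f.toAlgebra
    letI : Algebra R' S' := (IsLocalization.Away.map R' S' f r).toAlgebra
    letI : Algebra R S' := ((algebraMap S S').comp f).toAlgebra
    haveI : IsScalarTower R S S' := IsScalarTower.of_algebraMap_eq fun _ => rfl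
    haveI : IsScalarTower R R' S' := IsScalarTower.of_algebraMap_eq fun x => by
      show algebraMap S S' (f x) = IsLocalization.Away.map R' S' f r (algebraMap R R' x)
      rw [IsLocalization.Away.map, IsLocalization.map_eq]
    haveI : IsLocalization (Algebra.algebraMapSubmonoid S (Submonoid.powers r)) S' := by
      rw [show Algebra.algebraMapSubmonoid S (Submonoid.powers r) = Submonoid.powers (f r) from
        Submonoid.map_powers _ _]
      infer_instance
    haveI : Algebra.IsPushout R R' S S' := (Algebra.isPushout_of_isLocalization (Submonoid.powers r) R' S S').symm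
    haveI : Algebra.EssFiniteType R R' := Algebra.EssFiniteType.of_isLocalization R' (Submonoid.powers r)
    exact gp_of_algEquiv hP (Algebra.IsPushout.equiv R R' S S') (gp_baseChange hP R S R' hf)
  · intro R S _ _ f s hs hf
    letI := f.toAlgebra
    refine gp_of_cover hP hZ R S fun q hq => ?_
    obtain ⟨r, hrs, hrq⟩ := Set.not_subset.1 fun hle : s ⊆ q => hq.ne_top (top_le_iff.1 (hs ▸ Ideal.span_le.2 hle))
    refine ⟨r, hrq, ?_⟩
    have := hf ⟨r, hrs⟩
    rw [show (algebraMap S (Localization.Away r)).comp f = algebraMap R (Localization.Away r) from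
      (IsScalarTower.algebraMap_eq R S (Localization.Away r)).symm, qHom_algebraMap] at this
    exact this
  · refine RingHom.OfLocalizationSpan.mk _ (qHom_respectsIso hP) ?_
    intro R S _ _ _ s hs hf
    rw [qHom_algebraMap]
    refine gp_descend hP R S fun p hp => ?_
    obtain ⟨r, hrs, hrp⟩ := Set.not_subset.1 fun hle : s ⊆ p => hp.ne_top (top_le_iff.1 (hs ▸ Ideal.span_le.2 hle))
    have hd := (Ideal.disjoint_powers_iff_notMem r hp.isRadical).2 hrp
    exact ⟨Localization.Away r, inferInstance, inferInstance, IsLocalization.flat _ (Submonoid.powers r),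
      p.map (algebraMap R (Localization.Away r)), IsLocalization.isPrime_of_isPrime_disjoint _ _ p hp hd,
      IsLocalization.comap_map_of_isPrime_disjoint _ _ hp hd, (qHom_algebraMap _ _).1 (hf r hrs)⟩
  · intro R S T _ _ _ _ s _ f hf
    letI := f.toAlgebra
    letI : Algebra R T := ((algebraMap S T).comp f).toAlgebra
    haveI : IsScalarTower R S T := IsScalarTower.of_algebraMap_eq fun _ => rfl
    exact gp_away hP R S T s hf

end Groth.Agent.GPLib
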