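import Groth.Agent.GPLib.Scheme

/-! Regular and normal morphisms. -/

set_option autoImplicit false
set_option backward.isDefEq.respectTransparency false
set_option backward.isDefEq.respectTransparency.types false

namespace Groth.Agent.GPLib

universe u

open AlgebraicGeometry CategoryTheory Limits TensorProduct Groth.Agent.FlatLoc6

variable {P : ∀ (R : Type u) [CommRing R], Prop}

theorem gp_field_iff (hP : Permanence P) (k S : Type u) [Field k] [CommRing S] [Algebra k S] :
    GP P k S ↔ ∀ (L : Type u) [Field L] [Algebra k L], Module.Finite k L → P (L ⊗[k] S) := by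
  refine ⟨fun h L _ _ hL => ?_, fun h => ⟨inferInstance, fun p _ L _ _ hL => ?_⟩⟩
  · haveI : (⊥ : Ideal k).IsPrime := Ideal.isPrime_bot
    obtain ⟨_, _⟩ := exists_residueAlgebra (L := L) (⊥ : Ideal k) (RingHom.injective_iff_ker_eq_bot _ |>.1 (algebraMap k L).injective)
    haveI : Module.Finite (⊥ : Ideal k).ResidueField L := Module.Finite.of_restrictScalars_finite k _ L
    exact hP.equiv (Algebra.TensorProduct.cancelBaseChange k (⊥ : Ideal k).ResidueField L L S).toRingEquiv
      (h.2 ⊥ L inferInstance)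
  · letI : Algebra k L := ((algebraMap p.ResidueField L).comp (algebraMap k p.ResidueField)).toAlgebra
    haveI : IsScalarTower k p.ResidueField L := IsScalarTower.of_algebraMap_eq' rfl
    haveI : p.IsMaximal := (Ring.isField_iff_isSimpleOrder_ideal.1 (Field.toIsField k)).eq_bot_or_eq_top p |>.elim
      (fun e => e ▸ Ideal.bot_isMaximal) (fun e => absurd e (Ideal.IsPrime.ne_top inferInstance))
    haveI : Module.Finite k p.ResidueField := Module.Finite.of_surjective (Algebra.linearMap k p.ResidueField)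
      (Ideal.algebraMap_residueField_surjective p)
    haveI : Module.Finite k L := Module.Finite.trans p.ResidueField L
    exact hP.equiv (Algebra.TensorProduct.cancelBaseChange k p.ResidueField L L S).symm.toRingEquiv (h L inferInstance)

theorem isNoetherianRing_of_gp (hP : Permanence P) (hN : ∀ (R : Type u) [CommRing R], P R → IsNoetherianRing R)
    (A B : Type u) [CommRing A] [CommRing B] [Algebra A B] (h : GP P A B) (p : Ideal A) [p.IsPrime] :
    IsNoetherianRing (p.Fiber B) :=
  haveI := hN _ (h.2 p p.ResidueField inferInstance)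
  isNoetherianRing_of_ringEquiv _ (Algebra.TensorProduct.lid p.ResidueField (p.Fiber B)).toRingEquiv

theorem isRegularHom_iff_gp (A B : Type u) [CommRing A] [CommRing B] [Algebra A B] :
    CAlg.IsRegularHom A B ↔ GP (fun R _ => IsRegularRing R) A B := by
  refine ⟨fun h => ⟨h.1, fun p _ L _ _ hL => (h.2 p).2 L hL⟩, fun h => ⟨h.1, fun p _ => ⟨?_, fun L _ _ hL => h.2 p L hL⟩⟩⟩
  exact isNoetherianRing_of_gp permanence_regular (fun R _ hR => haveI : IsRegularRing R := hR; inferInstance) A B h p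

theorem isNormalHom_of_gp (A B : Type u) [CommRing A] [CommRing B] [Algebra A B]
    (h : GP (fun R _ => NoethNormal R) A B) : EGA4.IsNormalHom A B :=
  ⟨h.1, fun p _ L _ _ hL => (h.2 p L hL).2⟩

theorem gp_of_isNormalHom (A B : Type u) [CommRing A] [CommRing B] [Algebra A B] (h : EGA4.IsNormalHom A B)
    (hN : ∀ (p : Ideal A) [p.IsPrime], IsNoetherianRing (p.Fiber B)) : GP (fun R _ => NoethNormal R) A B :=
  ⟨h.1, fun p _ L _ _ hL =>
    haveI := hN p
    haveI := hL
    ⟨isNoetherianRing_tensor_finite p.ResidueField L (p.Fiber B), h.2 p L hL⟩⟩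

/-- The algebra on an affine open of a fibre. -/
theorem fibre_open_iff (hP : Permanence P) {X Y : Scheme.{u}} (f : X ⟶ Y) (y : Y) (W : (f.fiber y).Opens) :
    QHom P ((f.fiberToSpecResidueField y).appLE ⊤ W le_top).hom ↔
      letI : Algebra ↑(Y.residueField y) ↑Γ(f.fiber y, W) := ((Scheme.ΓSpecIso (Y.residueField y)).inv ≫ (f.fiberToSpecResidueField y).appTop ≫
          (f.fiber y).presheaf.map (homOfLE le_top).op).hom.toAlgebra
      ∀ (L : Type u) [Field L] [Algebra ↑(Y.residueField y) L], Module.Finite ↑(Y.residueField y) L →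
        P (L ⊗[↑(Y.residueField y)] ↑Γ(f.fiber y, W)) := by
  letI : Algebra ↑(Y.residueField y) ↑Γ(f.fiber y, W) := ((Scheme.ΓSpecIso (Y.residueField y)).inv ≫ (f.fiberToSpecResidueField y).appTop ≫
          (f.fiber y).presheaf.map (homOfLE le_top).op).hom.toAlgebra
  rw [← gp_field_iff hP, ← qHom_algebraMap,
    ← (qHom_respectsIso hP).cancel_left_isIso (Scheme.ΓSpecIso (Y.residueField y)).inv
      ((f.fiberToSpecResidueField y).appLE ⊤ W le_top)]
  rfl

theorem isLocallyNoetherian_fibre (hP : Permanence P) (hZ : ZLocal P)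
    (hN : ∀ (R : Type u) [CommRing R], P R → IsNoetherianRing R)
    {X Y : Scheme.{u}} {f : X ⟶ Y} (hf : GPMor P f) (y : Y) : IsLocallyNoetherian (f.fiber y) := by
  haveI := hasRingHomProperty hP hZ
  refine ⟨fun W => ?_⟩
  have h := HasRingHomProperty.appLE (GPMor P) _ (fibre hP hZ hf y) ⟨⊤, isAffineOpen_top _⟩ W le_top
  rw [fibre_open_iff hP f y W] at h
  letI : Algebra ↑(Y.residueField y) ↑Γ(f.fiber y, (W : (f.fiber y).Opens)) := ((Scheme.ΓSpecIso (Y.residueField y)).inv ≫ (f.fiberToSpecResidueField y).appTop ≫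
          (f.fiber y).presheaf.map (homOfLE le_top).op).hom.toAlgebra
  haveI := hN _ (h (Y.residueField y) inferInstance)
  exact isNoetherianRing_of_ringEquiv _ (Algebra.TensorProduct.lid (Y.residueField y) Γ(f.fiber y, (W : (f.fiber y).Opens))).toRingEquiv

/-- The fibre rings of an affine piece of a morphism with locally Noetherian fibres. -/
theorem isNoetherianRing_fibre_appLE {X Y : Scheme.{u}} (f : X ⟶ Y) (hN : ∀ y : Y, IsLocallyNoetherian (f.fiber y))
    {U : X.Opens} {V : Y.Opens} (hU : IsAffineOpen U) (hV : IsAffineOpen V) (hUV : U ≤ f ⁻¹ᵁ V)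
    (p : Ideal Γ(Y, V)) [p.IsPrime] :
    letI := (f.appLE V U hUV).hom.toAlgebra
    IsNoetherianRing (p.Fiber Γ(X, U)) := by
  letI := (f.appLE V U hUV).hom.toAlgebra
  let y := hV.fromSpec ⟨p, inferInstance⟩
  have hy : y ∈ V := hV.range_fromSpec.le ⟨_, rfl⟩
  let L : Type u := Y.residueField y
  letI : Algebra Γ(Y, V) L := (Y.evaluation V y hy).hom.toAlgebra
  have hker : RingHom.ker (algebraMap Γ(Y, V) L) = p := by
    ext a
    show Y.evaluation V y hy a = 0 ↔ _
    rw [Scheme.evaluation_eq_zero_iff_notMem_basicOpen]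
    show (⟨p, inferInstance⟩ : PrimeSpectrum Γ(Y, V)) ∉ hV.fromSpec ⁻¹ᵁ Y.basicOpen a ↔ _
    rw [hV.fromSpec_preimage_basicOpen]
    exact not_not
  obtain ⟨_, _⟩ := exists_residueAlgebra (L := L) p hker
  let m : pullback (Spec.map (f.appLE V U hUV)) (Spec.map (Y.evaluation V y hy)) ⟶ f.fiber y :=
    pullback.map _ _ _ _ hU.fromSpec (𝟙 _) hV.fromSpec (IsAffineOpen.SpecMap_appLE_fromSpec f hV hU hUV) (by
      rw [Category.id_comp, Scheme.fromSpecResidueField, ← hV.fromSpecStalk_eq_fromSpecStalk hy,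
        IsAffineOpen.fromSpecStalk, ← Category.assoc, ← Spec.map_comp]
      rfl)
  haveI : IsOpenImmersion m := inferInstanceAs (IsOpenImmersion (pullback.map _ _ _ _ _ _ _ _ _))
  haveI := hN y
  haveI := isLocallyNoetherian_of_isOpenImmersion m
  haveI : IsLocallyNoetherian (Spec (CommRingCat.of (Γ(X, U) ⊗[Γ(Y, V)] L))) :=
    isLocallyNoetherian_of_isOpenImmersion (pullbackSpecIso Γ(Y, V) Γ(X, U) L).inv
  haveI : IsNoetherianRing (Γ(X, U) ⊗[Γ(Y, V)] L) := isLocallyNoetherian_Spec.1 this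
  haveI : IsNoetherianRing (L ⊗[p.ResidueField] p.Fiber Γ(X, U)) := isNoetherianRing_of_ringEquiv _
    ((Algebra.TensorProduct.comm Γ(Y, V) Γ(X, U) L).toRingEquiv.trans
      (Algebra.TensorProduct.cancelBaseChange Γ(Y, V) p.ResidueField L L Γ(X, U)).symm.toRingEquiv)
  haveI : IsNoetherianRing (p.Fiber Γ(X, U) ⊗[p.ResidueField] L) :=
    isNoetherianRing_of_ringEquiv _ (Algebra.TensorProduct.comm p.ResidueField L (p.Fiber Γ(X, U))).toRingEquiv
  exact isNoetherianRing_of_faithfullyFlat (p.Fiber Γ(X, U)) (p.Fiber Γ(X, U) ⊗[p.ResidueField] L)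

theorem regular_iff {X Y : Scheme.{u}} (f : X ⟶ Y) :
    GPMor (fun R _ => IsRegularRing R) f ↔
      ∀ (U : X.Opens) (V : Y.Opens) (_ : IsAffineOpen U) (_ : IsAffineOpen V) (hUV : U ≤ f ⁻¹ᵁ V),
        letI := (f.appLE V U hUV).hom.toAlgebra
        CAlg.IsRegularHom Γ(Y, V) Γ(X, U) := by
  rw [gpMor_iff]
  refine forall_congr' fun U => forall_congr' fun V => forall_congr' fun _ => forall_congr' fun _ =>
    forall_congr' fun hUV => ?_
  letI := (f.appLE V U hUV).hom.toAlgebra
  exact (isRegularHom_iff_gp _ _).symm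

theorem regular_pack_iff {X Y : Scheme.{u}} (f : X ⟶ Y) :
    ((∀ y : Y, IsLocallyNoetherian (f.fiber y)) ∧ ∀ (U : X.Opens) (V : Y.Opens) (_ : IsAffineOpen U) (_ : IsAffineOpen V)
      (hUV : U ≤ f ⁻¹ᵁ V), letI := (f.appLE V U hUV).hom.toAlgebra; CAlg.IsRegularHom Γ(Y, V) Γ(X, U)) ↔
      GPMor (fun R _ => IsRegularRing R) f := by
  rw [regular_iff]
  exact ⟨fun h => h.2, fun h => ⟨isLocallyNoetherian_fibre permanence_regular zLocal_regular
    (fun R _ hR => haveI : IsRegularRing R := hR; inferInstance) ((regular_iff f).2 h), h⟩⟩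

theorem normal_pack_iff {X Y : Scheme.{u}} (f : X ⟶ Y) :
    ((∀ y : Y, IsLocallyNoetherian (f.fiber y)) ∧ ∀ (U : X.Opens) (V : Y.Opens) (_ : IsAffineOpen U) (_ : IsAffineOpen V)
      (hUV : U ≤ f ⁻¹ᵁ V), letI := (f.appLE V U hUV).hom.toAlgebra; EGA4.IsNormalHom Γ(Y, V) Γ(X, U)) ↔
      GPMor (fun R _ => NoethNormal R) f := by
  refine ⟨fun h => (gpMor_iff f).2 fun U V hU hV hUV => ?_,
    fun h => ⟨isLocallyNoetherian_fibre permanence_normal zLocal_normal (fun R _ hR => hR.1) h,
      fun U V hU hV hUV => ?_⟩⟩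
  · letI := (f.appLE V U hUV).hom.toAlgebra
    exact gp_of_isNormalHom _ _ (h.2 U V hU hV hUV) fun p _ => isNoetherianRing_fibre_appLE f h.1 hU hV hUV p
  · letI := (f.appLE V U hUV).hom.toAlgebra
    exact isNormalHom_of_gp _ _ ((gpMor_iff f).1 h U V hU hV hUV)

theorem regular_iff_flat_and_fibres {X Y : Scheme.{u}} (f : X ⟶ Y) :
    GPMor (fun R _ => IsRegularRing R) f ↔
      Flat f ∧ ∀ (y : Y) (W : (f.fiber y).Opens), IsAffineOpen W →
        letI : Algebra ↑(Y.residueField y) ↑Γ(f.fiber y, W) := ((Scheme.ΓSpecIso (Y.residueField y)).inv ≫ (f.fiberToSpecResidueField y).appTop ≫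
          (f.fiber y).presheaf.map (homOfLE le_top).op).hom.toAlgebra
        IsNoetherianRing ↑Γ(f.fiber y, W) ∧ CAlg.IsGeometricallyRegular ↑(Y.residueField y) ↑Γ(f.fiber y, W) := by
  haveI := hasRingHomProperty permanence_regular zLocal_regular
  refine ⟨fun h => ⟨flat_of_gpMor permanence_regular zLocal_regular h, fun y W hW => ⟨?_, ?_⟩⟩, fun h => ?_⟩
  · exact (isLocallyNoetherian_fibre permanence_regular zLocal_regular
      (fun R _ hR => haveI : IsRegularRing R := hR; inferInstance) h y).component_noetherian ⟨W, hW⟩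
  · exact (fibre_open_iff permanence_regular f y W).1
      (HasRingHomProperty.appLE (GPMor _) _ (fibre permanence_regular zLocal_regular h y) ⟨⊤, isAffineOpen_top _⟩ ⟨W, hW⟩ le_top)
  · haveI := h.1
    refine of_flat_of_fibres permanence_regular zLocal_regular f fun y => ?_
    exact HasRingHomProperty.of_iSup_eq_top (P := GPMor _) (fun W : (f.fiber y).affineOpens => W)
      (iSup_affineOpens_eq_top _) fun W => (fibre_open_iff permanence_regular f y W).2 (h.2 y W W.2).2

end Groth.Agent.GPLib
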