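import Groth.Agent.GPLib.Ring
import Groth.Agent.SmallFlat.Misc
import Mathlib.AlgebraicGeometry.Fiber
import Mathlib.AlgebraicGeometry.Morphisms.Affine
import Mathlib.AlgebraicGeometry.Morphisms.Flat
import Mathlib.AlgebraicGeometry.Morphisms.FinitePresentation
import Mathlib.RingTheory.RingHom.EssFiniteType

/-! Morphisms which are affine-locally flat with geometric properties of the fibres. -/

set_option autoImplicit false
set_option backward.isDefEq.respectTransparency false
set_option backward.isDefEq.respectTransparency.types false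

namespace Groth.Agent.GPLib

universe u

open AlgebraicGeometry CategoryTheory Limits TensorProduct Groth.Agent.FlatLoc6

variable {P : ∀ (R : Type u) [CommRing R], Prop}

variable (P) in
/-- The property on all pairs of affine opens. -/
abbrev GPMor : MorphismProperty Scheme.{u} := affineLocally (QHom P)

theorem hasRingHomProperty (hP : Permanence P) (hZ : ZLocal P) : HasRingHomProperty (GPMor P) (QHom P) :=
  ⟨qHom_isLocal hP hZ, rfl⟩

theorem gpMor_iff {X Y : Scheme.{u}} (f : X ⟶ Y) :
    GPMor P f ↔ ∀ (U : X.Opens) (V : Y.Opens) (_ : IsAffineOpen U) (_ : IsAffineOpen V) (hUV : U ≤ f ⁻¹ᵁ V),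
      letI := (f.appLE V U hUV).hom.toAlgebra
      GP P Γ(Y, V) Γ(X, U) := by
  show affineLocally (QHom P) f ↔ _
  rw [affineLocally_iff_forall_isAffineOpen]
  exact ⟨fun h U V hU hV hUV => h hV hU hUV, fun h V hV U hU e => h U V hU hV e⟩

theorem qHom_baseChange (hP : Permanence P) {A B A' B' : CommRingCat.{u}} {φ : A ⟶ B} {ψ : A ⟶ A'} {ψ' : B ⟶ B'}
    {φ' : A' ⟶ B'} (sq : IsPushout φ ψ ψ' φ') (hψ : ψ.hom.EssFiniteType) (h : QHom P φ.hom) : QHom P φ'.hom := by
  letI := φ.hom.toAlgebra
  letI := ψ.hom.toAlgebra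
  letI := ψ'.hom.toAlgebra
  letI := φ'.hom.toAlgebra
  letI : Algebra A B' := (φ'.hom.comp ψ.hom).toAlgebra
  haveI : IsScalarTower A A' B' := IsScalarTower.of_algebraMap_eq' rfl
  haveI : IsScalarTower A B B' := IsScalarTower.of_algebraMap_eq' (congrArg CommRingCat.Hom.hom sq.w).symm
  haveI : Algebra.IsPushout A A' B B' := (CommRingCat.isPushout_iff_isPushout.1 sq).symm
  haveI : Algebra.EssFiniteType A A' := hψ
  exact gp_of_algEquiv hP (Algebra.IsPushout.equiv A A' B B') (gp_baseChange hP A B A' h)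

theorem qHom_fibre_descend (hP : Permanence P) {A B A' B' : CommRingCat.{u}} {φ : A ⟶ B} {ψ : A ⟶ A'} {ψ' : B ⟶ B'}
    {φ' : A' ⟶ B'} (sq : IsPushout φ ψ ψ' φ') (h : QHom P φ'.hom) (Q : Ideal A') [Q.IsPrime] (p : Ideal A) [p.IsPrime]
    (hQ : Q.comap ψ.hom = p) :
    letI := φ.hom.toAlgebra
    ∀ (L : Type u) [Field L] [Algebra p.ResidueField L], Module.Finite p.ResidueField L →
      P (L ⊗[p.ResidueField] p.Fiber B) := by
  letI := φ.hom.toAlgebra
  letI := ψ.hom.toAlgebra
  letI := ψ'.hom.toAlgebra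
  letI := φ'.hom.toAlgebra
  letI : Algebra A B' := (φ'.hom.comp ψ.hom).toAlgebra
  haveI : IsScalarTower A A' B' := IsScalarTower.of_algebraMap_eq' rfl
  haveI : IsScalarTower A B B' := IsScalarTower.of_algebraMap_eq' (congrArg CommRingCat.Hom.hom sq.w).symm
  haveI : Algebra.IsPushout A A' B B' := (CommRingCat.isPushout_iff_isPushout.1 sq).symm
  intro L _ _ hL
  have h' := gp_of_algEquiv hP (Algebra.IsPushout.equiv A A' B B').symm h
  exact fibre_descend hP A B A' Q p hQ (fun L _ _ hL => h'.2 Q L hL) L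

theorem pullback_snd_affine (hP : Permanence P) (hZ : ZLocal P) {X V T : Scheme.{u}} [IsAffine V] [IsAffine T]
    (h : X ⟶ V) (t : T ⟶ V) (ht : t.appTop.hom.EssFiniteType) (hh : GPMor P h) : GPMor P (pullback.snd h t) := by
  haveI := hasRingHomProperty hP hZ
  wlog hX : IsAffine X generalizing X
  · rw [IsZariskiLocalAtSource.iff_of_openCover (P := GPMor P) (Scheme.Pullback.openCoverOfLeft X.affineCover h t)]
    intro i
    simp only [Scheme.Pullback.openCoverOfLeft_f, limit.lift_π, PullbackCone.mk_π_app, Category.comp_id]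
    exact this (X.affineCover.f i ≫ h) (HasRingHomProperty.comp_of_isOpenImmersion (GPMor P) _ _ hh) inferInstance
  rw [HasRingHomProperty.iff_of_isAffine (P := GPMor P)] at hh ⊢
  exact qHom_baseChange hP (isPushout_appTop_of_isPullback (IsPullback.of_hasPullback h t)) ht hh

theorem pullback_snd_comp (hP : Permanence P) (hZ : ZLocal P) {X Y V T : Scheme.{u}} [IsAffine V] [IsAffine T]
    (f : X ⟶ Y) (ι : V ⟶ Y) [IsOpenImmersion ι] (t : T ⟶ V) (ht : t.appTop.hom.EssFiniteType) (hf : GPMor P f) :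
    GPMor P (pullback.snd f (t ≫ ι)) := by
  haveI := hasRingHomProperty hP hZ
  have h1 : GPMor P (pullback.snd f ι) := IsZariskiLocalAtTarget.of_isPullback (IsPullback.of_hasPullback f ι).flip.flip hf
  rw [← pullbackLeftPullbackSndIso_inv_snd_snd f ι t, (GPMor P).cancel_left_of_respectsIso]
  exact pullback_snd_affine hP hZ _ t ht h1

theorem descend_affine (hP : Permanence P) (hZ : ZLocal P) {X V : Scheme.{u}} [IsAffine X] [IsAffine V]
    (h : X ⟶ V) [Flat h]
    (H : ∀ v : V, ∃ (T : Scheme.{u}) (_ : IsAffine T) (t : T ⟶ V) (τ : T), t τ = v ∧ GPMor P (pullback.snd h t)) :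
    GPMor P h := by
  haveI := hasRingHomProperty hP hZ
  rw [HasRingHomProperty.iff_of_isAffine (P := GPMor P)]
  refine ⟨HasRingHomProperty.appTop (P := @Flat) h inferInstance, fun p _ => ?_⟩
  obtain ⟨T, _, t, τ, hτ, hgp⟩ := H (V.isoSpec.inv ⟨p, inferInstance⟩)
  have hnat : Spec.map t.appTop (T.isoSpec.hom τ) = (⟨p, inferInstance⟩ : PrimeSpectrum Γ(V, ⊤)) := by
    rw [← Scheme.Hom.comp_apply, Scheme.isoSpec_hom_naturality, Scheme.Hom.comp_apply, hτ,
      ← Scheme.Hom.comp_apply, Iso.inv_hom_id]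
    rfl
  haveI : IsAffine (pullback h t) := inferInstance
  rw [HasRingHomProperty.iff_of_isAffine (P := GPMor P)] at hgp
  exact qHom_fibre_descend hP (isPushout_appTop_of_isPullback (IsPullback.of_hasPullback h t)) hgp
    (T.isoSpec.hom τ).asIdeal p (congrArg PrimeSpectrum.asIdeal hnat)

theorem descend (hP : Permanence P) (hZ : ZLocal P) {X Y : Scheme.{u}} (f : X ⟶ Y) [Flat f]
    (H : ∀ (V : Scheme.{u}) [IsAffine V] (ι : V ⟶ Y) [IsOpenImmersion ι] (v : V),
      ∃ (T : Scheme.{u}) (_ : IsAffine T) (t : T ⟶ V) (τ : T), t τ = v ∧ GPMor P (pullback.snd f (t ≫ ι))) :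
    GPMor P f := by
  haveI := hasRingHomProperty hP hZ
  rw [IsZariskiLocalAtTarget.iff_of_openCover (P := GPMor P) Y.affineCover]
  intro i
  let ι := Y.affineCover.f i
  show GPMor P (pullback.snd f ι)
  rw [IsZariskiLocalAtSource.iff_of_openCover (P := GPMor P) (pullback f ι).affineCover]
  intro k
  refine descend_affine hP hZ _ fun v => ?_
  obtain ⟨T, hT, t, τ, hτ, hgp⟩ := H _ ι v
  refine ⟨T, hT, t, τ, hτ, ?_⟩
  let j := (pullback f ι).affineCover.f k ≫ pullback.fst f ι
  let m : pullback ((pullback f ι).affineCover.f k ≫ pullback.snd f ι) t ⟶ pullback f (t ≫ ι) :=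
    pullback.map _ _ _ _ j (𝟙 T) ι (by simp [j, pullback.condition]) (by simp)
  have e : m ≫ pullback.snd f (t ≫ ι) = pullback.snd _ t := by simp [m]
  rw [← e]
  exact HasRingHomProperty.comp_of_isOpenImmersion (GPMor P) m _ hgp

theorem iso_baseChange {X Y X' Y' T : Scheme.{u}} {f : X ⟶ Y} {f' : X' ⟶ Y'} {g' : X' ⟶ X} {g : Y' ⟶ Y}
    (hP : Permanence P) (hZ : ZLocal P) (hc : IsPullback g' f' f g) (s : T ⟶ Y') :
    GPMor P (pullback.snd f (s ≫ g)) ↔ GPMor P (pullback.snd f' s) := by
  haveI := hasRingHomProperty hP hZ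
  have h := ((IsPullback.of_hasPullback f' s).flip.paste_vert hc.flip).flip
  rw [← h.isoPullback_hom_snd, (GPMor P).cancel_left_of_respectsIso]

theorem baseChange (hP : Permanence P) (hZ : ZLocal P) {X Y X' Y' : Scheme.{u}} {f : X ⟶ Y} {f' : X' ⟶ Y'}
    {g' : X' ⟶ X} {g : Y' ⟶ Y} [LocallyOfFinitePresentation g] (hc : IsPullback g' f' f g) (hf : GPMor P f) :
    GPMor P f' := by
  haveI := hasRingHomProperty hP hZ
  rw [IsZariskiLocalAtTarget.iff_of_openCover (P := GPMor P)
    ((Y.affineCover.pullback₁ g).bind fun i => ((Y.affineCover.pullback₁ g).X i).affineCover)]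
  intro ik
  show GPMor P (pullback.snd f' (((Y.affineCover.pullback₁ g).X ik.1).affineCover.f ik.2 ≫
    pullback.fst g (Y.affineCover.f ik.1)))
  rw [← iso_baseChange hP hZ hc, Category.assoc, pullback.condition, ← Category.assoc]
  refine pullback_snd_comp hP hZ f _ _ ?_ hf
  have : LocallyOfFinitePresentation (((Y.affineCover.pullback₁ g).X ik.1).affineCover.f ik.2 ≫
    pullback.snd g (Y.affineCover.f ik.1)) := inferInstance
  exact (RingHom.FiniteType.of_finitePresentation
    (HasRingHomProperty.appTop (P := @LocallyOfFinitePresentation) _ this)).essFiniteType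

theorem flat_of_comp {A B C : Scheme.{u}} (p : A ⟶ B) (q : B ⟶ C) [Flat p] [Surjective p] [Flat (p ≫ q)] :
    Flat q := by
  refine Flat.of_stalkMap q fun y => ?_
  obtain ⟨x, rfl⟩ := p.surjective y
  have h1 := Flat.stalkMap (p ≫ q) x
  rw [Scheme.Hom.stalkMap_comp] at h1
  have h2 := Flat.stalkMap p x
  have h3 : IsLocalHom (p.stalkMap x).hom := inferInstance
  algebraize [(p.stalkMap x).hom, (q.stalkMap (p.base x)).hom, (p.stalkMap x).hom.comp (q.stalkMap (p.base x)).hom]
  haveI : Module.Flat (C.presheaf.stalk (q.base (p.base x))) (A.presheaf.stalk x) := h1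
  haveI : IsLocalHom (algebraMap (B.presheaf.stalk (p.base x)) (A.presheaf.stalk x)) := h3
  haveI : Module.FaithfullyFlat (B.presheaf.stalk (p.base x)) (A.presheaf.stalk x) :=
    Module.FaithfullyFlat.of_flat_of_isLocalHom
  exact Groth.Agent.SmallFlat.flat_of_faithfullyFlat_tower (C.presheaf.stalk (q.base (p.base x))) (B.presheaf.stalk (p.base x))
    (A.presheaf.stalk x)

theorem flat_of_gpMor (hP : Permanence P) (hZ : ZLocal P) {X Y : Scheme.{u}} {f : X ⟶ Y} (hf : GPMor P f) : Flat f := by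
  haveI := hasRingHomProperty hP hZ
  rw [HasRingHomProperty.iff_appLE (P := @Flat)]
  exact fun V U e => (HasRingHomProperty.appLE (GPMor P) f hf V U e).1

theorem iff_baseChange (hP : Permanence P) (hZ : ZLocal P) {X Y X' Y' : Scheme.{u}} {f : X ⟶ Y} {f' : X' ⟶ Y'}
    {g' : X' ⟶ X} {g : Y' ⟶ Y} [Flat g] [LocallyOfFinitePresentation g] [Surjective g]
    (hc : IsPullback g' f' f g) : GPMor P f ↔ GPMor P f' := by
  haveI := hasRingHomProperty hP hZ
  refine ⟨baseChange hP hZ hc, fun hf' => ?_⟩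
  haveI : Flat f := by
    haveI : Flat f' := flat_of_gpMor hP hZ hf'
    haveI : Flat g' := MorphismProperty.of_isPullback hc.flip ‹Flat g›
    haveI : Surjective g' := MorphismProperty.of_isPullback hc.flip ‹Surjective g›
    haveI : Flat (g' ≫ f) := by rw [hc.w]; infer_instance
    exact flat_of_comp g' f
  refine descend hP hZ f fun V _ ι _ v => ?_
  obtain ⟨y', hy'⟩ := g.surjective (ι v)
  obtain ⟨w, -, hw⟩ := Scheme.Pullback.exists_preimage_pullback (f := g) (g := ι) y' v hy'
  obtain ⟨τ, hτ⟩ := (pullback g ι).affineCover.covers w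
  refine ⟨_, inferInstance, (pullback g ι).affineCover.f ((pullback g ι).affineCover.idx w) ≫ pullback.snd g ι, τ,
    by rw [Scheme.Hom.comp_apply, hτ, hw], ?_⟩
  rw [Category.assoc, ← pullback.condition, ← Category.assoc, iso_baseChange hP hZ hc]
  exact IsZariskiLocalAtTarget.of_isPullback (IsPullback.of_hasPullback f' _).flip.flip hf'

/-- The map from the spectrum of a residue field into an affine neighbourhood. -/
theorem exists_toAffine {Y : Scheme.{u}} (y : Y) {V : Y.Opens} (hV : IsAffineOpen V) (hy : y ∈ V) :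
    ∃ t : Spec (Y.residueField y) ⟶ (V : Scheme.{u}),
      t ≫ V.ι = Y.fromSpecResidueField y ∧ t.appTop.hom.EssFiniteType := by
  haveI : IsAffine (V : Scheme.{u}) := hV
  let φ := Y.evaluation V y hy
  refine ⟨Spec.map φ ≫ hV.isoSpec.inv, ?_, ?_⟩
  · rw [Category.assoc, show hV.isoSpec.inv ≫ V.ι = hV.fromSpec from rfl, Scheme.fromSpecResidueField,
      ← hV.fromSpecStalk_eq_fromSpecStalk hy, IsAffineOpen.fromSpecStalk, ← Category.assoc, ← Spec.map_comp]
    rfl
  · have hφ : φ.hom.EssFiniteType := by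
      letI := Y.presheaf.algebra_section_stalk ⟨y, hy⟩
      haveI := hV.isLocalization_stalk ⟨y, hy⟩
      haveI : Algebra.EssFiniteType Γ(Y, V) (Y.presheaf.stalk y) :=
        Algebra.EssFiniteType.of_isLocalization _ (hV.primeIdealOf ⟨y, hy⟩).asIdeal.primeCompl
      exact RingHom.EssFiniteType.comp (RingHom.essFiniteType_algebraMap.2 this)
        (RingHom.FiniteType.of_surjective _ (Y.residue_surjective y)).essFiniteType
    rw [Scheme.Hom.comp_appTop, CommRingCat.hom_comp]
    refine RingHom.EssFiniteType.comp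
      (RingHom.FiniteType.of_surjective _ (ConcreteCategory.bijective_of_isIso (hV.isoSpec.inv.appTop)).2).essFiniteType ?_
    rw [show (Spec.map φ).appTop = (Scheme.ΓSpecIso _).hom ≫ φ ≫ (Scheme.ΓSpecIso _).inv by
      rw [← Scheme.ΓSpecIso_naturality_assoc, Iso.hom_inv_id, Category.comp_id]]
    simp only [CommRingCat.hom_comp]
    exact RingHom.EssFiniteType.comp
      (RingHom.FiniteType.of_surjective _ (ConcreteCategory.bijective_of_isIso (Scheme.ΓSpecIso _).hom).2).essFiniteType
      (RingHom.EssFiniteType.comp hφ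
        (RingHom.FiniteType.of_surjective _ (ConcreteCategory.bijective_of_isIso (Scheme.ΓSpecIso _).inv).2).essFiniteType)

theorem fibre (hP : Permanence P) (hZ : ZLocal P) {X Y : Scheme.{u}} {f : X ⟶ Y} (hf : GPMor P f) (y : Y) :
    GPMor P (f.fiberToSpecResidueField y) := by
  obtain ⟨_, ⟨(V : Y.Opens), hV, rfl⟩, hy, -⟩ := Y.isBasis_affineOpens.exists_subset_of_mem_open (Set.mem_univ y) isOpen_univ
  obtain ⟨t, ht, htess⟩ := exists_toAffine y hV hy
  haveI : IsAffine (V : Scheme.{u}) := hV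
  show GPMor P (pullback.snd f (Y.fromSpecResidueField y))
  rw [← ht]
  exact pullback_snd_comp hP hZ f V.ι t htess hf

theorem of_flat_of_fibres (hP : Permanence P) (hZ : ZLocal P) {X Y : Scheme.{u}} (f : X ⟶ Y) [Flat f]
    (h : ∀ y : Y, GPMor P (f.fiberToSpecResidueField y)) : GPMor P f := by
  refine descend hP hZ f fun V _ ι _ v => ?_
  let t := V.fromSpecResidueField v ≫ 𝟙 V
  refine ⟨Spec (Y.residueField (ι v)), inferInstance,
    IsOpenImmersion.lift ι (Y.fromSpecResidueField (ι v)) (by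
      rw [Scheme.range_fromSpecResidueField]
      exact Set.singleton_subset_iff.2 ⟨v, rfl⟩), IsLocalRing.closedPoint (Y.residueField (ι v)), ?_, ?_⟩
  · refine ι.isOpenEmbedding.injective ?_
    rw [← Scheme.Hom.comp_apply, IsOpenImmersion.lift_fac, Scheme.fromSpecResidueField_apply]
  · rw [IsOpenImmersion.lift_fac]
    exact h (ι v)

end Groth.Agent.GPLib
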